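import Mathlib.AlgebraicGeometry.Sites.Proetale

/-!
# Coverings of affine objects of the pro-étale site

A covering sieve of an affine object contains a finite jointly surjective family with affine
sources, and such a family generates a covering sieve.
-/

universe w u

open CategoryTheory Limits AlgebraicGeometry

namespace Groth.Agent.ProEtPts

variable {S : Scheme.{u}}

theorem weaklyEtale_left {V W : S.ProEt} (g : V ⟶ W) : WeaklyEtale g.left := by
  have hW : WeaklyEtale W.hom := W.prop
  have hV : WeaklyEtale (g.left ≫ W.hom) := by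
    rw [show g.left ≫ W.hom = V.hom from MorphismProperty.Over.w g]; exact V.prop
  exact MorphismProperty.of_postcomp (W := @WeaklyEtale) (W' := @WeaklyEtale) g.left W.hom hW hV

/-- An open subscheme of an object of the site. -/
noncomputable abbrev sub (W : S.ProEt) (U : W.left.Opens) : S.ProEt :=
  Scheme.ProEt.mk (U.ι ≫ W.hom)

/-- Its inclusion. -/
noncomputable def subι (W : S.ProEt) (U : W.left.Opens) : sub W U ⟶ W :=
  MorphismProperty.Over.homMk U.ι (by rfl)

theorem subι_left (W : S.ProEt) (U : W.left.Opens) : (subι W U).left = U.ι := rfl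

/-- A covering sieve of a quasi-compact object contains a finite jointly surjective family with
affine sources. -/
theorem exists_finite_of_mem (W : S.ProEt) [CompactSpace W.left] (R : Sieve W)
    (hR : R ∈ Scheme.ProEt.topology S W) :
    ∃ (n : ℕ) (V : Fin n → S.ProEt) (g : ∀ k, V k ⟶ W), (∀ k, R (g k)) ∧
      (∀ k, IsAffine (V k).left) ∧ ∀ x : W.left, ∃ k, x ∈ Set.range (g k).left := by
  haveI : (Scheme.ProEt.precoverage S).HasIsos := by
    unfold Scheme.ProEt.precoverage; infer_instance
  haveI : (Scheme.ProEt.precoverage S).IsStableUnderComposition := by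
    unfold Scheme.ProEt.precoverage; infer_instance
  haveI : (Scheme.ProEt.precoverage S).IsStableUnderBaseChange := by
    unfold Scheme.ProEt.precoverage; infer_instance
  obtain ⟨R', hR', hle⟩ := Precoverage.mem_toGrothendieck_iff_of_isStableUnderComposition.mp hR
  obtain ⟨ι, Y, f, rfl⟩ := R'.exists_eq_ofArrows
  rw [Scheme.ProEt.precoverage, Precoverage.mem_comap_iff, Presieve.map_ofArrows] at hR'
  haveI : QuasiCompactCover
      (⟨ι, fun i => (Y i).left, fun i => (f i).left⟩ : PreZeroHypercover W.left) :=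
    Scheme.presieve₀_mem_qcPrecoverage_iff.mp hR'.1
  obtain ⟨n, a, V, hV, hcov⟩ := QuasiCompactCover.exists_isAffineOpen_of_isCompact
    (⟨ι, fun i => (Y i).left, fun i => (f i).left⟩ : PreZeroHypercover W.left)
    (U := ⊤) (by simpa using isCompact_univ)
  refine ⟨n, fun k => sub (Y (a k)) (V k), fun k => subι (Y (a k)) (V k) ≫ f (a k),
    fun k => R.downward_closed (hle _ _ (Presieve.ofArrows.mk (a k))) _, fun k => hV k, fun x => ?_⟩
  have hx : x ∈ ⋃ k, (f (a k)).left '' (V k : Set _) := by rw [hcov]; trivial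
  obtain ⟨k, y, hy, rfl⟩ := Set.mem_iUnion.mp hx
  exact ⟨k, ⟨y, hy⟩, rfl⟩

/-- A finite jointly surjective family of affine objects over an affine object is covering. -/
theorem ofArrows_mem (W : S.ProEt) [IsAffine W.left] {ι : Type} [Finite ι] (V : ι → S.ProEt)
    [∀ k, IsAffine (V k).left] (g : ∀ k, V k ⟶ W)
    (hg : ∀ x : W.left, ∃ k, x ∈ Set.range (g k).left) :
    Sieve.ofArrows V g ∈ Scheme.ProEt.topology S W := by
  rw [Sieve.ofArrows]
  refine Precoverage.generate_mem_toGrothendieck ?_
  rw [Scheme.ProEt.precoverage, Precoverage.mem_comap_iff, Presieve.map_ofArrows]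
  refine ⟨?_, ?_⟩
  · let 𝒰 : Scheme.Cover.{0} (Scheme.precoverage @WeaklyEtale) W.left :=
      { I₀ := ι
        X := fun k => (V k).left
        f := fun k => (g k).left
        mem₀ := (Scheme.ofArrows_mem_precoverage_iff _).mpr ⟨hg, fun k => weaklyEtale_left (g k)⟩ }
    haveI : Finite 𝒰.I₀ := inferInstanceAs (Finite ι)
    haveI : ∀ k, QuasiCompact (𝒰.f k) := fun k =>
      (inferInstance : QuasiCompact ((g k).left))
    exact Scheme.presieve₀_mem_qcPrecoverage_iff.mpr
      (QuasiCompactCover.of_finite (𝒰 := 𝒰))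
  · exact (Scheme.ofArrows_mem_precoverage_iff _).mpr ⟨hg, fun k => weaklyEtale_left (g k)⟩

/-- A Zariski open covering is covering. -/
theorem ofArrows_sub_mem (W : S.ProEt) {ι : Type u} (U : ι → W.left.Opens)
    (hU : ∀ x : W.left, ∃ i, x ∈ U i) :
    Sieve.ofArrows (fun i => sub W (U i)) (fun i => subι W (U i)) ∈
      Scheme.ProEt.topology S W := by
  rw [Sieve.ofArrows]
  refine Precoverage.generate_mem_toGrothendieck ?_
  rw [Scheme.ProEt.precoverage, Precoverage.mem_comap_iff, Presieve.map_ofArrows]
  refine Scheme.zariskiPrecoverage_le_propQCPrecoverage (P := @WeaklyEtale) _ ?_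
  refine (Scheme.ofArrows_mem_precoverage_iff _).mpr ⟨fun x => ?_, fun i => ?_⟩
  · obtain ⟨i, hi⟩ := hU x
    exact ⟨i, ⟨x, hi⟩, rfl⟩
  · show IsOpenImmersion (U i).ι
    infer_instance

end Groth.Agent.ProEtPts
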