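import Groth.Agent.Lib.ProEtPts.Cover
import Groth.Agent.Lib.ToposFin.Deligne
import Mathlib.CategoryTheory.Category.ULift
import Mathlib.CategoryTheory.Limits.FullSubcategory

/-!
# The pro-étale site has enough points
-/

universe u

open CategoryTheory Limits AlgebraicGeometry Opposite

namespace Groth.Agent.ProEtPts

variable {S : Scheme.{u}} (U : S.affineOpens)

/-- Affine objects lying over `U`. -/
def isOver : ObjectProperty S.ProEt := fun W =>
  IsAffine W.left ∧ Set.range W.hom ⊆ (U.1 : Set S)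

/-- The coherent site of affine objects over `U`. -/
abbrev Aff := ULiftHom.{u + 1} (isOver U).FullSubcategory

/-- Its embedding in the pro-étale site. -/
def emb : Aff U ⥤ S.ProEt := ULiftHom.down ⋙ (isOver U).ι

instance : (emb U).Full := by
  haveI : (ULiftHom.down : Aff U ⥤ _).IsEquivalence :=
    (ULiftHom.equiv (C := (isOver U).FullSubcategory)).isEquivalence_inverse
  unfold emb; infer_instance

instance : (emb U).Faithful := by
  haveI : (ULiftHom.down : Aff U ⥤ _).IsEquivalence :=
    (ULiftHom.equiv (C := (isOver U).FullSubcategory)).isEquivalence_inverse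
  unfold emb; infer_instance

theorem isOver_emb (X : Aff U) : isOver U ((emb U).obj X) := (ULiftHom.objDown X).property

theorem isAffine_emb (X : Aff U) : IsAffine ((emb U).obj X).left := (isOver_emb U X).1

theorem isOver_of_hom {V W : S.ProEt} (g : V ⟶ W) (hV : IsAffine V.left) (hW : isOver U W) :
    isOver U V := by
  refine ⟨hV, ?_⟩
  rw [← show g.left ≫ W.hom = V.hom from MorphismProperty.Over.w g]
  rintro _ ⟨x, rfl⟩
  exact hW.2 ⟨g.left x, rfl⟩

instance : (isOver U).IsClosedUnderLimitsOfShape WalkingCospan := by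
  refine ⟨?_⟩
  rintro W ⟨p⟩
  haveI : IsAffine (p.diag.obj WalkingCospan.left).left := (p.prop_diag_obj _).1
  haveI : IsAffine (p.diag.obj WalkingCospan.right).left := (p.prop_diag_obj _).1
  haveI : IsAffine (p.diag.obj WalkingCospan.one).left := (p.prop_diag_obj _).1
  refine isOver_of_hom U (p.π.app WalkingCospan.left) ?_ (p.prop_diag_obj _)
  let F := Scheme.ProEt.forget S ⋙ Over.forget S
  have h := isLimitOfPreserves F p.isLimit
  let D := p.diag ⋙ F
  haveI : IsAffine (D.obj WalkingCospan.left) := ‹IsAffine (p.diag.obj WalkingCospan.left).left›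
  haveI : IsAffine (D.obj WalkingCospan.right) := ‹IsAffine (p.diag.obj WalkingCospan.right).left›
  haveI : IsAffine (D.obj WalkingCospan.one) := ‹IsAffine (p.diag.obj WalkingCospan.one).left›
  haveI : IsAffine (limit (cospan (D.map WalkingCospan.Hom.inl) (D.map WalkingCospan.Hom.inr))) :=
    inferInstanceAs (IsAffine (pullback _ _))
  exact IsAffine.of_isIso (h.conePointUniqueUpToIso (limit.isLimit D) ≪≫
    HasLimit.isoOfNatIso (diagramIsoCospan D)).hom

/-- The final object. -/
noncomputable def topObj : (isOver U).FullSubcategory :=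
  ⟨Scheme.ProEt.mk U.1.ι, U.2, (Scheme.Opens.range_ι U.1).le⟩

instance : HasTerminal (isOver U).FullSubcategory := by
  have hl : ∀ W : (isOver U).FullSubcategory,
      ∃ l : W.obj.left ⟶ (U.1 : Scheme.{u}), l ≫ U.1.ι = W.obj.hom := fun W =>
    ⟨IsOpenImmersion.lift U.1.ι W.obj.hom (W.property.2.trans (Scheme.Opens.range_ι U.1).ge),
      IsOpenImmersion.lift_fac _ _ _⟩
  choose l hl using hl
  refine IsTerminal.hasTerminal (X := topObj U) (IsTerminal.ofUniqueHom
    (fun W => ObjectProperty.homMk (MorphismProperty.Over.homMk (l W) (hl W))) fun W m => ?_)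
  apply ObjectProperty.hom_ext
  refine (Scheme.ProEt.forgetFullyFaithful S).map_injective (Over.OverMorphism.ext ?_)
  show m.hom.left = l W
  exact (cancel_mono U.1.ι).mp ((MorphismProperty.Over.w m.hom).trans (hl W).symm)

instance : HasFiniteLimits (Aff U) := by
  haveI : HasPullbacks (isOver U).FullSubcategory :=
    hasLimitsOfShape_of_closedUnderLimits (P := isOver U) WalkingCospan
  haveI := (hasFiniteLimits_of_hasTerminal_and_pullbacks : HasFiniteLimits (isOver U).FullSubcategory)
  exact ⟨fun J _ _ => Adjunction.hasLimitsOfShape_of_equivalence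
    (ULiftHom.equiv (C := (isOver U).FullSubcategory)).inverse⟩

theorem pushforward_mem {X : Aff U} (R : Sieve X) {n : ℕ} (V : Fin n → Aff U) (g : ∀ k, V k ⟶ X)
    (hg : ∀ k, R (g k)) (hx : ∀ x : ((emb U).obj X).left, ∃ k, x ∈ Set.range ((emb U).map (g k)).left) :
    R.functorPushforward (emb U) ∈ Scheme.ProEt.topology S ((emb U).obj X) := by
  haveI : IsAffine ((emb U).obj X).left := isAffine_emb U X
  haveI : ∀ k, IsAffine ((emb U).obj (V k)).left := fun k => isAffine_emb U (V k)
  refine GrothendieckTopology.superset_covering _ ?_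
    (ofArrows_mem ((emb U).obj X) (fun k => (emb U).obj (V k)) (fun k => (emb U).map (g k)) hx)
  rw [Sieve.generate_le_iff]
  rintro _ _ ⟨k⟩
  exact Sieve.image_mem_functorPushforward _ _ (hg k)

/-- A covering sieve of an object of `Aff U` contains a finite family coming from `Aff U`. -/
theorem exists_finite {X : Aff U} (T : Sieve ((emb U).obj X))
    (hT : T ∈ Scheme.ProEt.topology S ((emb U).obj X)) :
    ∃ (n : ℕ) (V : Fin n → Aff U) (g : ∀ k, V k ⟶ X), (∀ k, T ((emb U).map (g k))) ∧
      ∀ x : ((emb U).obj X).left, ∃ k, x ∈ Set.range ((emb U).map (g k)).left := by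
  haveI : IsAffine ((emb U).obj X).left := isAffine_emb U X
  obtain ⟨n, V, g, hg, haff, hx⟩ := exists_finite_of_mem _ T hT
  let V' : Fin n → Aff U := fun k => ULiftHom.objUp (⟨V k, isOver_of_hom U (g k) (haff k) (isOver_emb U X)⟩ :
    (isOver U).FullSubcategory)
  let g' : ∀ k, V' k ⟶ X := fun k => (emb U).preimage (X := V' k) (g k)
  have e : ∀ k, (emb U).map (g' k) = g k := fun k => (emb U).map_preimage _
  exact ⟨n, V', g', fun k => by rw [e]; exact hg k, fun x => by
    obtain ⟨k, hk⟩ := hx x; exact ⟨k, by rw [e]; exact hk⟩⟩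

instance : (emb U).LocallyCoverDense (Scheme.ProEt.topology S) where
  functorPushforward_functorPullback_mem X T := by
    obtain ⟨n, V, g, hg, hx⟩ := exists_finite U T.1 T.2
    exact pushforward_mem U _ V g hg hx

/-- The topology on `Aff U`. -/
abbrev affTop : GrothendieckTopology (Aff U) :=
  (emb U).restrictedTopology (Scheme.ProEt.topology S)

theorem finite_covers (X : Aff U) (R : Sieve X) (hR : R ∈ affTop U X) :
    ∃ (n : ℕ) (V : Fin n → Aff U) (g : ∀ k, V k ⟶ X), (∀ k, R (g k)) ∧
      Sieve.ofArrows V g ∈ affTop U X := by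
  rw [Functor.mem_restrictedTopology_iff] at hR
  obtain ⟨n, V, g, hg, hx⟩ := exists_finite U _ hR
  refine ⟨n, V, g, fun k => ?_, ?_⟩
  · obtain ⟨Z, h, q, hh, e⟩ := hg k
    have : g k = (emb U).preimage q ≫ h :=
      (emb U).map_injective (by rw [Functor.map_comp, Functor.map_preimage]; exact e)
    rw [this]
    exact R.downward_closed hh _
  · rw [Functor.mem_restrictedTopology_iff]
    exact pushforward_mem U _ V g (fun k => Sieve.ofArrows_mk _ _ k) hx

section transport

variable (Φ : GrothendieckTopology.Point.{u + 1} (affTop U))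

instance : LocallySmall.{u + 1} S.ProEt := ⟨fun _ _ => inferInstance⟩

/-- The pro-object defining the image of a point. -/
abbrev proj : Φ.fiber.Elements ⥤ S.ProEt := CategoryOfElements.π Φ.fiber ⋙ emb U

theorem proj_cover ⦃Y : S.ProEt⦄ (R : Sieve Y) (hR : R ∈ Scheme.ProEt.topology S Y)
    ⦃a : Φ.fiber.Elements⦄ (f : (proj U Φ).obj a ⟶ Y) :
    ∃ (Z : S.ProEt) (g : Z ⟶ Y) (_ : R g) (b : Φ.fiber.Elements) (q : b ⟶ a)
      (l : (proj U Φ).obj b ⟶ Z), l ≫ g = (proj U Φ).map q ≫ f := by
  obtain ⟨X, x⟩ := a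
  have h : (R.pullback f).functorPullback (emb U) ∈ affTop U X := by
    apply Functor.mem_restrictedTopology_iff.mpr
    exact Functor.LocallyCoverDense.functorPushforward_functorPullback_mem (G := emb U) (X := X)
      ⟨_, GrothendieckTopology.pullback_stable _ f hR⟩
  obtain ⟨Z, g, hg, z, hz⟩ := Φ.jointly_surjective _ h x
  exact ⟨(emb U).obj Z, (emb U).map g ≫ f, hg, Functor.elementsMk _ Z z,
    CategoryOfElements.homMk _ _ g hz, 𝟙 _, Category.id_comp _⟩

/-- The image of a point of `Aff U`. -/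
noncomputable def image : GrothendieckTopology.Point.{u + 1} (Scheme.ProEt.topology S) :=
  GrothendieckTopology.Point.ofIsCofiltered.{u + 1} (proj U Φ) (proj_cover U Φ)

end transport

open GrothendieckTopology.Point in
theorem detect {Y : S.ProEt} (T : Sieve Y) (X : Aff U) (j : (emb U).obj X ⟶ Y)
    (Φ : GrothendieckTopology.Point.{u + 1} (affTop U)) (x : Φ.fiber.obj X)
    (hx : ∀ (Z : Aff U) (g : Z ⟶ X), (T.pullback j).functorPullback (emb U) g →
      ∀ z : Φ.fiber.obj Z, Φ.fiber.map g z ≠ x) :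
    ∃ y : (image U Φ).fiber.obj Y, ∀ (Z : S.ProEt) (g : Z ⟶ Y), T g →
      ∀ z : (image U Φ).fiber.obj Z, (image U Φ).fiber.map g z ≠ y := by
  let a : Φ.fiber.Elements := Functor.elementsMk _ X x
  refine ⟨ofIsCofiltered.fiberMk (p := proj U Φ) (U := a) j, fun Z g hg z hz => ?_⟩
  obtain ⟨b, f, rfl⟩ := ofIsCofiltered.fiberMk_jointly_surjective z
  obtain ⟨c, u₁, u₂, -⟩ := IsCofilteredOrEmpty.cone_objs b a
  have e : ofIsCofiltered.fiberMk.{u + 1} (p := proj U Φ) (U := c) ((proj U Φ).map u₁ ≫ f ≫ g) =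
      ofIsCofiltered.fiberMk.{u + 1} (p := proj U Φ) (U := c) ((proj U Φ).map u₂ ≫ j) := by
    rw [ofIsCofiltered.fiberMk_map_comp, ofIsCofiltered.fiberMk_map_comp]
    exact (ofIsCofiltered.fiber_map_fiberMk (proj U Φ) f g).symm.trans hz
  obtain ⟨d, v, hv⟩ := ofIsCofiltered.exists_of_fiberMk_eq_fiberMk e
  refine hx d.1 (v ≫ u₂).1 ?_ d.2 (v ≫ u₂).2
  show T ((proj U Φ).map (v ≫ u₂) ≫ j)
  rw [Functor.map_comp, Category.assoc, ← hv]
  simp only [← Category.assoc]
  exact T.downward_closed hg _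

omit U in
/-- A non covering sieve stays non covering on an affine open over an affine of the base. -/
theorem exists_affine {Y : S.ProEt} (T : Sieve Y) (hT : T ∉ Scheme.ProEt.topology S Y) :
    ∃ (U : S.affineOpens) (X : Aff U) (j : (emb U).obj X ⟶ Y),
      (T.pullback j).functorPullback (emb U) ∉ affTop U X := by
  by_contra hno
  simp only [not_exists, not_not] at hno
  have hex : ∀ y : Y.left, ∃ (U : S.affineOpens) (W : Y.left.Opens),
      IsAffineOpen W ∧ W ≤ Y.hom ⁻¹ᵁ U.1 ∧ y ∈ W := by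
    intro y
    obtain ⟨U, hU, hy, -⟩ :=
      TopologicalSpace.Opens.isBasis_iff_nbhd.mp S.isBasis_affineOpens (show Y.hom y ∈ (⊤ : S.Opens) from trivial)
    obtain ⟨W, hW, hyW, hle⟩ :=
      TopologicalSpace.Opens.isBasis_iff_nbhd.mp Y.left.isBasis_affineOpens (show y ∈ Y.hom ⁻¹ᵁ U from hy)
    exact ⟨⟨U, hU⟩, W, hW, hle, hyW⟩
  choose U W hW hle hy using hex
  refine hT (GrothendieckTopology.transitive _ (ofArrows_sub_mem Y W fun y => ⟨y, hy y⟩) _ ?_)
  intro Z h hh
  obtain ⟨y, q, rfl⟩ := (Sieve.mem_ofArrows_iff _ _ _).1 hh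
  rw [Sieve.pullback_comp]
  refine GrothendieckTopology.pullback_stable _ q ?_
  let X : Aff (U y) := ULiftHom.objUp (⟨sub Y (W y), hW y, by
    rintro _ ⟨z, rfl⟩; exact hle y z.2⟩ : (isOver (U y)).FullSubcategory)
  have h := hno (U y) X (subι Y (W y))
  rw [Functor.mem_restrictedTopology_iff] at h
  exact GrothendieckTopology.superset_covering _
    ((Sieve.functor_galoisConnection (emb (U y)) X).l_u_le _) h

theorem hasEnoughPoints (S : Scheme.{u}) :
    GrothendieckTopology.HasEnoughPoints.{u + 1} (Scheme.ProEt.topology S) := by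
  classical
  choose Φ x hx using
    fun q : Σ (U : S.affineOpens) (X : Aff U), {R : Sieve X // R ∉ affTop U X} =>
      ToposFin.Deligne.exists_point (finite_covers q.1) q.2.2.1 q.2.2.2
  refine ⟨⟨ObjectProperty.ofObj (fun q => image q.1 (Φ q)), inferInstance, ?_⟩⟩
  refine ObjectProperty.IsConservativeFamilyOfPoints.mk' fun Y T hT => ?_
  by_contra hne
  obtain ⟨U, X, j, hj⟩ := exists_affine T hne
  let q : Σ (U : S.affineOpens) (X : Aff U), {R : Sieve X // R ∉ affTop U X} := ⟨U, X, _, hj⟩
  obtain ⟨y, hy⟩ := detect U T X j (Φ q) (x q) (hx q)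
  obtain ⟨Z, g, hg, z, hz⟩ := hT ⟨image U (Φ q), ⟨q⟩⟩ y
  exact hy Z g hg z hz

end Groth.Agent.ProEtPts
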